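import Mathlib

/-! A real element in an abelian Sylow subgroup gives an automizer of even order. -/

namespace Cfsg.Agent.Lib.AbelianSylow.Automizer

theorem two_dvd_index_of_real {G : Type*} [Group G] [Finite G] {p : ℕ} [Fact p.Prime]
    (P : Sylow p G) (hP : IsMulCommutative (P : Subgroup G)) (x : G) (hx : x ∈ P)
    (hne : x⁻¹ ≠ x) (hreal : IsConj x x⁻¹) :
    2 ∣ ((Subgroup.centralizer ((P : Subgroup G) : Set G)).subgroupOf
      (Subgroup.normalizer ((P : Subgroup G) : Set G))).index := by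
  haveI : IsMulCommutative (P : Subgroup G) := hP
  obtain ⟨g, hg⟩ := isConj_iff.1 hreal
  obtain ⟨n, hn, he⟩ := P.conj_eq_normalizer_conj_of_mem x g⁻¹ hx (by rw [inv_inv, hg]; exact inv_mem hx)
  rw [inv_inv, hg] at he
  set C := (Subgroup.centralizer ((P : Subgroup G) : Set G)).subgroupOf
    (Subgroup.normalizer ((P : Subgroup G) : Set G))
  by_contra hodd
  have hmem : (⟨n, hn⟩ : ↥(Subgroup.normalizer ((P : Subgroup G) : Set G))) ^ C.index ∈ C :=
    Subgroup.pow_index_mem _ _
  rw [Subgroup.mem_subgroupOf, Subgroup.coe_pow] at hmem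
  have hs : ∀ y : G, y = x ∨ y = x⁻¹ → n⁻¹ * y * n = y⁻¹ := by
    rintro y (rfl | rfl)
    · exact he.symm
    · rw [inv_inv]
      calc n⁻¹ * x⁻¹ * n = (n⁻¹ * x * n)⁻¹ := by group
        _ = x := by rw [← he, inv_inv]
  have hk : ∀ k : ℕ, (n ^ k)⁻¹ * x * n ^ k = if Even k then x else x⁻¹ := by
    intro k
    induction k with
    | zero => simp
    | succ k ih =>
      have h2 : (n ^ (k + 1))⁻¹ * x * n ^ (k + 1) = n⁻¹ * ((n ^ k)⁻¹ * x * n ^ k) * n := by
        rw [pow_succ]; group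
      rw [h2, ih]
      by_cases h : Even k
      · rw [if_pos h, if_neg (by simp [Nat.even_add_one, h]), hs x (Or.inl rfl)]
      · rw [if_neg h, if_pos (by simp [Nat.even_add_one, h]), hs x⁻¹ (Or.inr rfl), inv_inv]
  have h3 := hk C.index
  rw [if_neg (fun h => hodd (even_iff_two_dvd.1 h))] at h3
  apply hne
  rw [← h3, mul_assoc, Subgroup.mem_centralizer_iff.1 hmem x hx, ← mul_assoc, inv_mul_cancel, one_mul]

end Cfsg.Agent.Lib.AbelianSylow.Automizer
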